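import Cfsg.Agent.H776.P4.Stmts

/-!
# S5210, tasks P4-REALa, P4-REALb: the interface to the concrete group `SU₄(K)` (helper458)
-/

set_option autoImplicit false

namespace Cfsg.Agent.H458.P4

open Cfsg Cfsg.FusionSystem Cfsg.Agent.H756.PU Cfsg.Agent.H776.P4

universe u

/-- The data supplied by the concrete group: `G0` = the matrices `g ∈ SL₄(K)` with `g J g* = J`, `T` = the group of the pairs
`(a, b) ∈ MulAut (PG K) × MulAut G0` with `IsTorP a s l τ`, `b` = conjugation by the similitude `diag` after `τ`. -/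
structure RData (K : Type u) [Field K] [StarRing K] (p : ℕ) where
  G0 : Type u
  T : Type u
  [grpG : Group G0]
  [finG : Finite G0]
  [grpT : Group T]
  /-- the embedding -/
  ι : PG K →* G0
  ρ : T →* MulAut (PG K)
  A : T →* MulAut G0
  inj : Function.Injective ι
  syl : ¬ p ∣ ι.range.index
  injT : Function.Injective ρ
  tor : ∀ (α : MulAut (PG K)) (s l : K) (τ : K ≃+* K), IsTorP α s l τ → α ∈ ρ.range
  act : ∀ (t : T) (x : PG K), A t (ι x) = ι (ρ t x)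
  /-- the normalizer of the Sylow subgroup -/
  nrm : ∀ g : G0, (∀ x : PG K, g * ι x * g⁻¹ ∈ ι.range) →
    ∃ (u : PG K) (t z : K) (α β : MulAut (PG K)), t ≠ 0 ∧ z ≠ 0 ∧ star z = z ∧
      IsTorP α (t ^ 2) ((t * star t)⁻¹) (RingEquiv.refl K) ∧ IsTorP β z (z⁻¹ * z⁻¹) (RingEquiv.refl K) ∧
      ∀ x : PG K, g * ι x * g⁻¹ = ι (u * α (β x) * u⁻¹)
  /-- the Weyl element of the parabolic `V` -/
  wV : G0
  hwV : ∀ γ : MulAut (PV K), IsWV γ → ∀ e : PV K, wV * ι (e : PG K) * wV⁻¹ = ι ((γ e : PV K) : PG K)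
  /-- the Weyl element of the parabolic `Q` -/
  wQ : G0
  hwQ : ∀ γ : MulAut (PQ K), IsWQ γ → ∀ e : PQ K, wQ * ι (e : PG K) * wQ⁻¹ = ι ((γ e : PQ K) : PG K)
  /-- Bruhat decomposition of the normalizer of `V`: `B ∪ U w B` -/
  brV : ∀ g : G0, (∀ e ∈ PV K, ∃ e' ∈ PV K, g * ι e * g⁻¹ = ι e') →
    (∀ x : PG K, g * ι x * g⁻¹ ∈ ι.range) ∨
    ∃ (x : PG K) (h : G0), (∀ y : PG K, h * ι y * h⁻¹ ∈ ι.range) ∧ g = ι x * wV * h
  /-- Bruhat decomposition of the normalizer of `Q`: `B ∪ U w B` -/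
  brQ : ∀ g : G0, (∀ e ∈ PQ K, ∃ e' ∈ PQ K, g * ι e * g⁻¹ = ι e') →
    (∀ x : PG K, g * ι x * g⁻¹ ∈ ι.range) ∨
    ∃ (x : PG K) (h : G0), (∀ y : PG K, h * ι y * h⁻¹ ∈ ι.range) ∧ g = ι x * wQ * h

attribute [instance] RData.grpG RData.finG RData.grpT

/-- (REAL-a) -/
def StRealA : Prop :=
  ∀ {K : Type u} [Field K] [StarRing K] {p n : ℕ} [Fact p.Prime], HypK K p n → Nonempty (RData.{u} K p)

end Cfsg.Agent.H458.P4
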