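import Cfsg.Agent.H776.P4.Stmts

/-!
# S5210 [P4-REALa]: the group `SUJ K` (helper458)

`SUJ K` is the special unitary group of the skew-hermitian form with the Gram matrix `J` on `K⁴`, basis
`e₁, e₂, f₂, f₁`; `emb : PG K →* SUJ K` is the group of the upper unitriangular matrices in it.
-/

set_option autoImplicit false

namespace Cfsg.Agent.H458.P4

open Matrix Cfsg.Agent.H776.P4

universe u

variable (K : Type u) [Field K] [StarRing K]

/-- the Gram matrix -/
def J : Matrix (Fin 4) (Fin 4) K :=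
  !![0, 0, 0, 1; 0, 0, 1, 0; 0, -1, 0, 0; -1, 0, 0, 0]

/-- its inverse -/
def J' : Matrix (Fin 4) (Fin 4) K :=
  !![0, 0, 0, -1; 0, 0, -1, 0; 0, 1, 0, 0; 1, 0, 0, 0]

theorem J_mul_J' : J K * J' K = 1 := by
  ext i j
  fin_cases i <;> fin_cases j <;> simp [J, J', Matrix.mul_apply, Fin.sum_univ_four]

theorem J'_mul_J : J' K * J K = 1 := mul_eq_one_comm.1 (J_mul_J' K)

theorem J'_eq : J' K = - J K := by
  ext i j
  fin_cases i <;> fin_cases j <;> simp [J, J']

variable {K}

/-- the condition -/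
def FJ (M : Matrix (Fin 4) (Fin 4) K) : Prop := M * J K * Mᴴ = J K

theorem FJ.mul {M N : Matrix (Fin 4) (Fin 4) K} (hM : FJ M) (hN : FJ N) : FJ (M * N) := by
  unfold FJ at *
  rw [Matrix.conjTranspose_mul]
  calc M * N * J K * (Nᴴ * Mᴴ) = M * (N * J K * Nᴴ) * Mᴴ := by simp only [Matrix.mul_assoc]
    _ = J K := by rw [hN, hM]

theorem FJ.one : FJ (1 : Matrix (Fin 4) (Fin 4) K) := by
  unfold FJ
  rw [Matrix.conjTranspose_one, Matrix.one_mul, Matrix.mul_one]

/-- the inverse -/
theorem FJ.inv_left {M : Matrix (Fin 4) (Fin 4) K} (hM : FJ M) : J K * Mᴴ * J' K * M = 1 := by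
  have h1 : M * (J K * Mᴴ * J' K) = 1 := by
    calc M * (J K * Mᴴ * J' K) = M * J K * Mᴴ * J' K := by simp only [Matrix.mul_assoc]
      _ = 1 := by rw [hM, J_mul_J']
  exact mul_eq_one_comm.1 h1

theorem FJ.col {M : Matrix (Fin 4) (Fin 4) K} (hM : FJ M) : Mᴴ * J K * M = J K := by
  have h1 := hM.inv_left
  have h2 : J' K * (J K * Mᴴ * J' K * M) = J' K := by rw [h1, Matrix.mul_one]
  have h3 : Mᴴ * J' K * M = J' K := by
    calc Mᴴ * J' K * M = (J' K * J K) * Mᴴ * J' K * M := by rw [J'_mul_J, Matrix.one_mul]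
      _ = J' K * (J K * Mᴴ * J' K * M) := by simp only [Matrix.mul_assoc]
      _ = J' K := h2
  rw [J'_eq, Matrix.mul_neg, Matrix.neg_mul, neg_inj] at h3
  exact h3

/-- the form on the rows -/
theorem FJ.row_rel {M : Matrix (Fin 4) (Fin 4) K} (hM : FJ M) (i j : Fin 4) :
    M i 0 * star (M j 3) + M i 1 * star (M j 2) - M i 2 * star (M j 1) - M i 3 * star (M j 0) = J K i j := by
  have h1 := congrFun (congrFun hM i) j
  simp only [Matrix.mul_apply, Fin.sum_univ_four, Matrix.conjTranspose_apply] at h1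
  rw [← h1]
  simp [J]
  ring

/-- the form on the columns -/
theorem FJ.col_rel {M : Matrix (Fin 4) (Fin 4) K} (hM : FJ M) (i j : Fin 4) :
    star (M 0 i) * M 3 j + star (M 1 i) * M 2 j - star (M 2 i) * M 1 j - star (M 3 i) * M 0 j = J K i j := by
  have h1 := congrFun (congrFun hM.col i) j
  simp only [Matrix.mul_apply, Fin.sum_univ_four, Matrix.conjTranspose_apply] at h1
  rw [← h1]
  simp [J]
  ring

variable (K) in
/-- the special unitary group -/
def SUJ : Subgroup (Matrix.SpecialLinearGroup (Fin 4) K) where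
  carrier := {g | FJ (g : Matrix (Fin 4) (Fin 4) K)}
  mul_mem' := by
    intro a b ha hb
    show FJ ((a * b : Matrix.SpecialLinearGroup (Fin 4) K) : Matrix (Fin 4) (Fin 4) K)
    rw [Matrix.SpecialLinearGroup.coe_mul]
    exact FJ.mul ha hb
  one_mem' := by
    show FJ ((1 : Matrix.SpecialLinearGroup (Fin 4) K) : Matrix (Fin 4) (Fin 4) K)
    rw [Matrix.SpecialLinearGroup.coe_one]
    exact FJ.one
  inv_mem' := by
    intro g hg
    have hg' : FJ (g : Matrix (Fin 4) (Fin 4) K) := hg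
    have h1 : ((g⁻¹ : Matrix.SpecialLinearGroup (Fin 4) K) : Matrix (Fin 4) (Fin 4) K) * g = 1 := by
      rw [← Matrix.SpecialLinearGroup.coe_mul, inv_mul_cancel, Matrix.SpecialLinearGroup.coe_one]
    show FJ ((g⁻¹ : Matrix.SpecialLinearGroup (Fin 4) K) : Matrix (Fin 4) (Fin 4) K)
    generalize ((g⁻¹ : Matrix.SpecialLinearGroup (Fin 4) K) : Matrix (Fin 4) (Fin 4) K) = N at h1 ⊢
    generalize (g : Matrix (Fin 4) (Fin 4) K) = M at h1 hg'
    have h2 : Mᴴ * Nᴴ = 1 := by rw [← Matrix.conjTranspose_mul, h1, Matrix.conjTranspose_one]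
    unfold FJ at *
    calc N * J K * Nᴴ = N * (M * J K * Mᴴ) * Nᴴ := by rw [hg']
      _ = (N * M) * J K * (Mᴴ * Nᴴ) := by simp only [Matrix.mul_assoc]
      _ = J K := by rw [h1, h2, Matrix.one_mul, Matrix.mul_one]

/-- the matrix of an element of `PG K` -/
def mt (x : PG K) : Matrix (Fin 4) (Fin 4) K :=
  !![1, x.r, x.b, x.a - x.b * star x.r;
     0, 1, x.c, star x.b - x.c * star x.r;
     0, 0, 1, - star x.r;
     0, 0, 0, 1]

set_option maxHeartbeats 2000000 in
theorem mt_mul (x y : PG K) : mt (x * y) = mt x * mt y := by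
  have h1 := y.hc
  ext i j
  fin_cases i <;> fin_cases j <;>
    simp [mt, Matrix.mul_apply, Fin.sum_univ_four, PG.mul_a, PG.mul_b]
  all_goals try ring1
  linear_combination (star x.r) * h1

set_option maxHeartbeats 2000000 in
theorem mt_form (x : PG K) : FJ (mt x) := by
  have h1 := x.ha
  have h2 := x.hc
  unfold FJ
  ext i j
  fin_cases i <;> fin_cases j <;>
    simp [mt, J, Matrix.mul_apply, Fin.sum_univ_four, h1, h2]
  all_goals try ring1

theorem mt_tri (x : PG K) : (mt x).BlockTriangular id := by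
  intro i j h
  fin_cases i <;> fin_cases j <;> first | rfl | (exact absurd h (by decide))

theorem mt_det (x : PG K) : (mt x).det = 1 := by
  rw [Matrix.det_of_isUpperTriangular (mt_tri x)]
  simp [mt, Fin.prod_univ_four]

theorem mt_one : mt (1 : PG K) = 1 := by
  ext i j
  fin_cases i <;> fin_cases j <;> simp [mt]

/-- the embedding of `PG K` -/
def emb : PG K →* SUJ K where
  toFun x := ⟨⟨mt x, mt_det x⟩, mt_form x⟩
  map_one' := Subtype.ext (Subtype.ext mt_one)
  map_mul' x y := Subtype.ext (Subtype.ext (mt_mul x y))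

/-- the matrix of an element of `SUJ K` -/
def mx (g : SUJ K) : Matrix (Fin 4) (Fin 4) K := ((g : Matrix.SpecialLinearGroup (Fin 4) K) : Matrix (Fin 4) (Fin 4) K)

theorem mx_emb (x : PG K) : mx (emb x) = mt x := rfl
theorem mx_mul (g h : SUJ K) : mx (g * h) = mx g * mx h := rfl
theorem mx_one : mx (1 : SUJ K) = 1 := rfl
theorem mx_injective : Function.Injective (mx : SUJ K → _) := fun _ _ h => Subtype.ext (Subtype.ext h)
theorem mx_form (g : SUJ K) : FJ (mx g) := g.2
theorem mx_det (g : SUJ K) : (mx g).det = 1 := g.1.2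

theorem mt_injective : Function.Injective (mt : PG K → _) := by
  intro x y h
  have e : ∀ i j, mt x i j = mt y i j := fun i j => by rw [h]
  have h1 : x.r = y.r := e 0 1
  have h4 : x.b = y.b := e 0 2
  have h5 : x.c = y.c := e 1 2
  have h6 : x.a - x.b * star x.r = y.a - y.b * star y.r := e 0 3
  rw [h4, h1] at h6
  ext
  · exact h1
  · exact sub_left_injective h6
  · exact h4
  · exact h5

theorem emb_injective : Function.Injective (emb : PG K →* SUJ K) := fun x y h =>
  mt_injective (congrArg mx h)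

/-- the upper unitriangular matrices of the unitary group are the matrices of `PG K` -/
theorem exists_mt {M : Matrix (Fin 4) (Fin 4) K} (hM : FJ M) (h0 : ∀ i j, j < i → M i j = 0) (h1 : ∀ i, M i i = 1) :
    ∃ x : PG K, mt x = M := by
  have z10 : M 1 0 = 0 := h0 _ _ (by decide)
  have z20 : M 2 0 = 0 := h0 _ _ (by decide)
  have z21 : M 2 1 = 0 := h0 _ _ (by decide)
  have z30 : M 3 0 = 0 := h0 _ _ (by decide)
  have z31 : M 3 1 = 0 := h0 _ _ (by decide)
  have z32 : M 3 2 = 0 := h0 _ _ (by decide)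
  have r02 := hM.row_rel 0 2
  have r11 := hM.row_rel 1 1
  have r01 := hM.row_rel 0 1
  have r00 := hM.row_rel 0 0
  have j02 : J K 0 2 = 0 := rfl
  have j11 : J K 1 1 = 0 := rfl
  have j01 : J K 0 1 = 0 := rfl
  have j00 : J K 0 0 = 0 := rfl
  rw [j02, z20, z21, h1 0, h1 2, star_zero, star_one] at r02
  rw [j11, z10, h1 1, star_zero, star_one] at r11
  rw [j01, z10, h1 0, h1 1, star_zero, star_one] at r01
  rw [j00, h1 0, star_one] at r00
  have m23 : M 2 3 = - star (M 0 1) := by
    have h := congrArg star r02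
    simp only [star_add, star_sub, star_mul', star_star, star_zero, star_one] at h
    linear_combination h
  have m12 : star (M 1 2) = M 1 2 := by
    linear_combination r11
  have m13 : M 1 3 = star (M 0 2) - M 1 2 * star (M 0 1) := by
    have h := congrArg star r01
    simp only [star_add, star_sub, star_mul', star_star, star_zero, star_one] at h
    linear_combination h
  refine ⟨⟨M 0 1, M 0 3 + M 0 2 * star (M 0 1), M 0 2, M 1 2, ?_, m12⟩, ?_⟩
  · simp only [star_add, star_mul', star_star]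
    linear_combination r00
  · ext i j
    fin_cases i <;> fin_cases j
    · exact (h1 0).symm
    · rfl
    · rfl
    · show M 0 3 + M 0 2 * star (M 0 1) - M 0 2 * star (M 0 1) = M 0 3
      ring
    · exact z10.symm
    · exact (h1 1).symm
    · rfl
    · exact m13.symm
    · exact z20.symm
    · exact z21.symm
    · exact (h1 2).symm
    · exact m23.symm
    · exact z30.symm
    · exact z31.symm
    · exact z32.symm
    · exact (h1 3).symm

theorem mem_range_emb {g : SUJ K} (h0 : ∀ i j, j < i → mx g i j = 0) (h1 : ∀ i, mx g i i = 1) :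
    ∃ x : PG K, emb x = g := by
  obtain ⟨x, hx⟩ := exists_mt (mx_form g) h0 h1
  exact ⟨x, mx_injective (by rw [mx_emb, hx])⟩

/-! ### the torus and the field automorphisms -/

/-- conjugation with the diagonal matrix `v` after the field automorphism `τ` -/
def cjm (v : Fin 4 → K) (τ : K ≃+* K) (M : Matrix (Fin 4) (Fin 4) K) : Matrix (Fin 4) (Fin 4) K :=
  fun i j => v i * τ (M i j) * (v j)⁻¹

/-- `v` is a diagonal similitude with the multiplier `m` -/
def TV (v : Fin 4 → K) (m : K) : Prop := m ≠ 0 ∧ star m = m ∧ v 0 * star (v 3) = m ∧ v 1 * star (v 2) = m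

theorem TV.rev {v : Fin 4 → K} {m : K} (h : TV v m) (i : Fin 4) : v i * star (v (Fin.rev i)) = m := by
  obtain ⟨-, h0, h1, h2⟩ := h
  fin_cases i
  · exact h1
  · exact h2
  · have h := congrArg star h2
    rw [star_mul', star_star, h0, mul_comm] at h
    exact h
  · have h := congrArg star h1
    rw [star_mul', star_star, h0, mul_comm] at h
    exact h

theorem TV.ne {v : Fin 4 → K} {m : K} (h : TV v m) (i : Fin 4) : v i ≠ 0 := by
  intro h0
  have h1 := h.rev i
  rw [h0, zero_mul] at h1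
  exact h.1 h1.symm

theorem cjm_eq (v : Fin 4 → K) (τ : K ≃+* K) (M : Matrix (Fin 4) (Fin 4) K) :
    cjm v τ M = Matrix.diagonal v * M.map τ * Matrix.diagonal (fun i => (v i)⁻¹) := by
  ext i j
  rw [Matrix.mul_diagonal, Matrix.diagonal_mul]
  rfl

theorem cjm_mul {v : Fin 4 → K} (hv : ∀ i, v i ≠ 0) (τ : K ≃+* K) (M N : Matrix (Fin 4) (Fin 4) K) :
    cjm v τ (M * N) = cjm v τ M * cjm v τ N := by
  ext i j
  simp only [cjm, Matrix.mul_apply, map_sum, map_mul, Finset.mul_sum, Finset.sum_mul]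
  refine Finset.sum_congr rfl fun k _ => ?_
  have := hv k
  field_simp

theorem cjm_one {v : Fin 4 → K} (hv : ∀ i, v i ≠ 0) (τ : K ≃+* K) : cjm v τ 1 = 1 := by
  ext i j
  unfold cjm
  by_cases h : i = j
  · subst h
    rw [Matrix.one_apply_eq, map_one, mul_one, mul_inv_cancel₀ (hv i)]
  · rw [Matrix.one_apply_ne h, map_zero, mul_zero, zero_mul]

theorem cjm_det {v : Fin 4 → K} (hv : ∀ i, v i ≠ 0) (τ : K ≃+* K) {M : Matrix (Fin 4) (Fin 4) K} (hM : M.det = 1) :
    (cjm v τ M).det = 1 := by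
  have h1 : (M.map τ).det = 1 := by
    have h2 := (RingHom.map_det (τ : K →+* K) M).symm
    rw [hM, map_one] at h2
    exact h2
  rw [cjm_eq, Matrix.det_mul, Matrix.det_mul, Matrix.det_diagonal, Matrix.det_diagonal, h1, mul_one,
    ← Finset.prod_mul_distrib]
  exact Finset.prod_eq_one fun i _ => mul_inv_cancel₀ (hv i)

theorem J_zero {i j : Fin 4} (h : ¬ j = Fin.rev i) : J K i j = 0 := by
  revert h
  fin_cases i <;> fin_cases j <;> intro h <;> first | rfl | exact absurd rfl h

theorem cjm_form {v : Fin 4 → K} {m : K} (hv : TV v m) {τ : K ≃+* K} (hτ : ∀ x, τ (star x) = star (τ x))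
    {M : Matrix (Fin 4) (Fin 4) K} (hM : FJ M) : FJ (cjm v τ M) := by
  have h1 : (M.map τ) * J K * (M.map τ)ᴴ = J K := by
    have h2 : (M * J K * Mᴴ).map τ = (J K).map τ := by rw [hM]
    have h3 : (J K).map τ = J K := by
      ext i j
      fin_cases i <;> fin_cases j <;> simp [J]
    have h4 : (Mᴴ).map τ = (M.map τ)ᴴ := by
      ext i j
      exact hτ _
    rw [Matrix.map_mul, Matrix.map_mul, h3, h4] at h2
    exact h2
  have e := hv.rev
  have hm := hv.1
  have h5 : Matrix.diagonal v * J K * (Matrix.diagonal v)ᴴ = m • J K := by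
    ext i j
    rw [Matrix.diagonal_conjTranspose, Matrix.mul_diagonal, Matrix.diagonal_mul, Matrix.smul_apply, smul_eq_mul]
    by_cases h : j = Fin.rev i
    · subst h
      have h6 := e i
      calc v i * J K i (Fin.rev i) * star (v (Fin.rev i)) = (v i * star (v (Fin.rev i))) * J K i (Fin.rev i) := by ring
        _ = m * J K i (Fin.rev i) := by rw [h6]
    · rw [J_zero h, mul_zero, zero_mul, mul_zero]
  have h6 : Matrix.diagonal (fun i => (v i)⁻¹) * J K * (Matrix.diagonal (fun i => (v i)⁻¹))ᴴ = m⁻¹ • J K := by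
    ext i j
    rw [Matrix.diagonal_conjTranspose, Matrix.mul_diagonal, Matrix.diagonal_mul, Matrix.smul_apply, smul_eq_mul]
    by_cases h : j = Fin.rev i
    · subst h
      have h6 := e i
      show (v i)⁻¹ * J K i (Fin.rev i) * star (v (Fin.rev i))⁻¹ = m⁻¹ * J K i (Fin.rev i)
      calc (v i)⁻¹ * J K i (Fin.rev i) * star (v (Fin.rev i))⁻¹
          = (v i)⁻¹ * star (v (Fin.rev i))⁻¹ * J K i (Fin.rev i) := by ring
        _ = (v i * star (v (Fin.rev i)))⁻¹ * J K i (Fin.rev i) := by rw [star_inv₀, mul_inv]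
        _ = m⁻¹ * J K i (Fin.rev i) := by rw [h6]
    · rw [J_zero h, mul_zero, zero_mul, mul_zero]
  rw [cjm_eq]
  unfold FJ
  rw [Matrix.conjTranspose_mul, Matrix.conjTranspose_mul]
  calc Matrix.diagonal v * M.map τ * Matrix.diagonal (fun i => (v i)⁻¹) * J K *
        ((Matrix.diagonal (fun i => (v i)⁻¹))ᴴ * ((M.map τ)ᴴ * (Matrix.diagonal v)ᴴ))
      = Matrix.diagonal v * M.map τ * (Matrix.diagonal (fun i => (v i)⁻¹) * J K *
        (Matrix.diagonal (fun i => (v i)⁻¹))ᴴ) * (M.map τ)ᴴ * (Matrix.diagonal v)ᴴ := by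
          simp only [Matrix.mul_assoc]
    _ = m⁻¹ • (Matrix.diagonal v * (M.map τ * J K * (M.map τ)ᴴ) * (Matrix.diagonal v)ᴴ) := by
          rw [h6]
          simp only [Matrix.mul_assoc, Matrix.mul_smul, Matrix.smul_mul]
    _ = m⁻¹ • (m • J K) := by rw [h1, h5]
    _ = J K := by rw [smul_smul, inv_mul_cancel₀ hm, one_smul]

theorem cjm_cjm {v w : Fin 4 → K} (τ σ : K ≃+* K) (M : Matrix (Fin 4) (Fin 4) K) :
    cjm v τ (cjm w σ M) = cjm (fun i => v i * τ (w i)) (σ.trans τ) M := by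
  ext i j
  show v i * τ (w i * σ (M i j) * (w j)⁻¹) * (v j)⁻¹ = v i * τ (w i) * τ (σ (M i j)) * (v j * τ (w j))⁻¹
  rw [map_mul, map_mul, map_inv₀, mul_inv]
  ring

/-- the automorphism of `SUJ K` -/
def autJ (v : Fin 4 → K) {m : K} (hv : TV v m) (τ : K ≃+* K) (hτ : ∀ x, τ (star x) = star (τ x)) : SUJ K →* SUJ K where
  toFun g := ⟨⟨cjm v τ (mx g), cjm_det hv.ne τ (mx_det g)⟩, cjm_form hv hτ (mx_form g)⟩
  map_one' := Subtype.ext (Subtype.ext (by
    show cjm v τ (mx 1) = 1
    rw [mx_one, cjm_one hv.ne]))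
  map_mul' g h := Subtype.ext (Subtype.ext (by
    show cjm v τ (mx (g * h)) = cjm v τ (mx g) * cjm v τ (mx h)
    rw [mx_mul, cjm_mul hv.ne]))

theorem mx_autJ (v : Fin 4 → K) {m : K} (hv : TV v m) (τ : K ≃+* K) (hτ : ∀ x, τ (star x) = star (τ x)) (g : SUJ K) :
    mx (autJ v hv τ hτ g) = cjm v τ (mx g) := rfl

set_option maxHeartbeats 2000000 in
/-- the action on `PG K` -/
theorem cjm_mt {v : Fin 4 → K} {s l : K} (e0 : v 0 = s * v 1) (e2 : v 2 = l⁻¹ * v 1) (e3 : v 3 = l⁻¹ * (star s)⁻¹ * v 1)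
    (hv : v 1 ≠ 0) {τ : K ≃+* K} {α : MulAut (PG K)} (hα : IsTorP α s l τ) (x : PG K) :
    cjm v τ (mt x) = mt (α x) := by
  have n0 := hα.ns
  have n1 := hα.nl
  have hτ := hα.tst
  have s0 : star s ≠ 0 := star_ne_zero.2 n0
  have sl := hα.sl
  have i0 := hα.r x
  have i3 := hα.a x
  have i4 := hα.b x
  have i5 := hα.c x
  ext i j
  unfold cjm
  fin_cases i <;> fin_cases j <;>
    simp [mt, i0, i3, i4, i5, e0, e2, e3, hτ, n0, n1, sl, hv]
  all_goals try field_simp
  all_goals try ring1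

end Cfsg.Agent.H458.P4
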